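import Mathlib
import Cfsg.Agent.Lib.Helper26.MCI.Defs

/-!
# MCI (S2132): package [A8GEN] -- the 3-cycle `g1` and the 7-cycle `g2` generate `A_8`.

Every 3-cycle `swap a b * swap b c` is `w * g1 * w⁻¹` for an explicit word `w` in `g1`, `g2`
(lookup table, kernel-checked), and the 3-cycles generate the alternating group.
-/

set_option autoImplicit false

namespace Cfsg.Agent.Lib.Helper80.MCI

open Cfsg.Agent.Lib.Helper26.MCI

/-- evaluation of a word in `g1` (`true`) and `g2` (`false`) -/
def ev80 : List Bool → Equiv.Perm (Fin 8)
  | [] => 1
  | b :: l => (if b then g1 else g2) * ev80 l

theorem ev80_mem (w : List Bool) :
    ev80 w ∈ Subgroup.closure ({g1, g2} : Set (Equiv.Perm (Fin 8))) := by
  induction w with
  | nil => exact one_mem _
  | cons b l ih =>
    cases b
    · exact mul_mem (Subgroup.subset_closure (by simp)) ih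
    · exact mul_mem (Subgroup.subset_closure (by simp)) ih

/-- for each triple `(a, b, c)` (index `64 a + 8 b + c`) a word mapping `(0, 1, 2)` to it -/
def wtab80 : List (List Bool) := [
  [],
  [],
  [],
  [],
  [],
  [],
  [],
  [],
  [],
  [],
  [],
  [false, true, false, true, false, false, false, false, false],
  [true, false, true, false],
  [true, true, false, false, false, false, true, false, false, false, true],
  [false, false, false, false, false, true, false, true],
  [false, false, false, false, true, false, true, true, false, true],
  [],
  [false, false, false, false, false, true, false, true, true, false, true],
  [],
  [false],
  [false, false, true, false, true, false, false, false, false, false],
  [false, true, false, true, false],
  [true, false, true, false, false, false, false, true, false, true],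
  [false, false, false, false, false, false, true, false, true],
  [],
  [true, false, true],
  [true, false, false, true, false, false, false, false, false, true, true],
  [],
  [false, false],
  [true, false, true, true, false, true, false],
  [false, false, true, false, true, false],
  [true, true, false, false, true, false, false, false, false, true, true],
  [],
  [false, true, true, false, false, true, false, false, false, false, true, true],
  [false, true, false, true],
  [true, false, true, true, false, true],
  [],
  [false, false, false],
  [false, true, false, true, true, false, true, false],
  [false, false, false, true, false, true, false],
  [],
  [true, false, true, false, true, false, true],
  [true, false, true, false, false, false, true, false, true, false],
  [false, false, true, false, true],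
  [false, true, false, true, true, false, true],
  [],
  [false, false, false, false],
  [false, false, true, false, true, true, false, true, false],
  [],
  [false, false, false, true, false, true, true, false, true, false],
  [false, true, false, true, false, true, false, true],
  [true, false, true, true, false, true, false, true, false, true],
  [false, false, false, true, false, true],
  [false, false, true, false, true, true, false, true],
  [],
  [false, false, false, false, false],
  [],
  [false, false, false, false, false, false],
  [true, false, true, false, false, false, false, false],
  [false, false, true, false, true, false, true, false, true],
  [false, true, false, true, true, false, true, false, true, false, true],
  [false, false, false, false, true, false, true],
  [false, false, false, true, false, true, true, false, true],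
  [],
  [],
  [],
  [false, false, false, false, false, true, false, true, true, false],
  [true, false],
  [false, true, true, false, false, true, false, false, false, false, true],
  [true, false, true, false, true, false],
  [true, true, false, true, false, false, false, false, true, false, true],
  [false, false, false, false, false, false, true, true],
  [],
  [],
  [],
  [],
  [],
  [],
  [],
  [],
  [true],
  [],
  [],
  [false, false, true, false, false, false, false, false, true],
  [true, true, false, true, false],
  [false, false, false, false, true, false, false, false, true],
  [true, false, false, false, false, false, true, false, true],
  [false, true, false, false, false, false, false, true, true],
  [false, true, false, true, false, false, false, false, false, true],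
  [],
  [true, true, false, true],
  [],
  [true, false, false],
  [true, true, false, true, true, false, true, false],
  [true, false, false, true, false, true, false],
  [false, false, true, false, false, false, false, true, true],
  [true, false, true, false, true],
  [],
  [false, false, false, true, false, false, true, false, true, true, false],
  [true, true, false, true, true, false, true],
  [],
  [true, false, false, false],
  [true, false, true, false, true, true, false, true, false],
  [true, false, false, false, true, false, true, false],
  [true, true, false, true, false, false, false, true, false, true, false],
  [],
  [true, true, false, true, false, true, false, true],
  [true, false, false, true, false, true],
  [true, false, true, false, true, true, false, true],
  [],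
  [true, false, false, false, false],
  [false, false, false, false, true, false, false, true, true],
  [false, false, false, false, false, true, false, true, true],
  [],
  [false, true, false, false, false, false, true, false, true, true],
  [false, false, true, false, false, false, true, false, true, true],
  [true, false, false, false, true, false, true],
  [true, false, false, true, false, true, true, false, true],
  [],
  [true, false, false, false, false, false],
  [true, true, false, true, false, false, false, false, false],
  [],
  [true, false, false, false, false, false, false],
  [true, false, false, true, false, true, false, true, false, true],
  [false, false, false, true, false, true, false, true, true, false, true, true],
  [true, false, false, false, false, true, false, true],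
  [false, false, false, false, false, true, true, false, true, true],
  [],
  [],
  [true, true],
  [],
  [true, false, false, true, false, false, false, false, false, true],
  [false, true, false],
  [true, false, false, false, false, true, false, false, false, true],
  [false, true, false, true, false, true, false],
  [true, false, true, false, false, false, false, false, true, true],
  [false, true, true, false, true, false, false, false, false, false],
  [],
  [],
  [true, true, false],
  [false, true, false, false, true, false, true, false, true, false, true],
  [true, true, false, true, false, true, false],
  [false, true, false, false, false, false, true, false, true],
  [true, false, false, false, false, false, false, true, true],
  [],
  [],
  [],
  [],
  [],
  [],
  [],
  [],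
  [false, true],
  [false, false, true, false, false, false, false, false, true, true],
  [],
  [],
  [true, true, false, false],
  [false, true, true, false, true, false],
  [true, true, false, false, true, false, true, false],
  [true, false, false, true, false, false, false, false, true, true],
  [false, false, true, false, true, false, false, false, false, false, true],
  [true, true, false, true, false, true],
  [],
  [false, true, true, false, true],
  [],
  [false, true, false, false],
  [false, true, true, false, true, true, false, true, false],
  [false, true, false, false, true, false, true, false],
  [false, true, false, true, false, true],
  [false, true, false, false, false, true, false, true, false],
  [],
  [true, true, false, false, true, false, true],
  [false, true, true, false, true, true, false, true],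
  [],
  [false, true, false, false, false],
  [true, false, false, false, false, true, false, false, true, true],
  [true, false, true, false, false, false, false, true, false, true, true],
  [true, false, false, false, false, false, true, false, true, true],
  [],
  [false, true, true, false, true, false, true, false, true],
  [false, true, false, false, true, false, true],
  [false, true, false, true, false, true, true, false, true],
  [],
  [false, true, false, false, false, false],
  [true, true, false, false, false, false, false, false],
  [false, true, false, false, false, false, false],
  [],
  [false, false, true, false, false, false, false, true, false, true, true],
  [false, false, false, true, false, false, false, true, false, true, true],
  [false, true, false, false, false, true, false, true],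
  [false, true, false, false, true, false, true, true, false, true],
  [],
  [],
  [true, true, false, false, true, false, false, false, false, false],
  [false, true, true],
  [],
  [true, false, true, true, false],
  [false, false, true, false],
  [true, false, true, true, false, true, false, true, false],
  [false, false, true, false, true, false, true, false],
  [true, false, true, true],
  [],
  [false, false, true, false, false, false, false, false],
  [],
  [true, true, false, true, true, false],
  [true, false, false, true, false],
  [false, false, true, false, false, false, true, false, true],
  [true, false, false, true, false, true, false, true, false],
  [true, false, false, true, false, false, false, false, false],
  [true, true, false, true, true],
  [],
  [],
  [false, true, true, false],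
  [true, true, false, false, true, false],
  [false, true, true, false, true, false, true, false],
  [false, false, true, false, false, false, false, true, false, true],
  [],
  [],
  [],
  [],
  [],
  [],
  [],
  [],
  [false, false, true],
  [true, false, false, true],
  [true, true, false, false, true],
  [],
  [],
  [false, true, true, false, false],
  [false, false, true, true, false, true, false],
  [false, true, true, false, false, true, false, true, false],
  [true, false, true, true, false, true, false, true],
  [true, true, false, true, true, false, true, false, true],
  [false, true, true, false, true, false, true],
  [],
  [false, false, true, true, false, true],
  [],
  [false, false, true, false, false],
  [false, false, true, true, false, true, true, false, true, false],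
  [false, false, true, false, true, false, true],
  [true, false, false, true, false, true, false, true],
  [true, true, false, false, true, false, true, false, true],
  [],
  [false, true, true, false, false, true, false, true],
  [false, false, true, true, false, true, true, false, true],
  [],
  [false, false, true, false, false, false],
  [true, true, false, false, true, false, false, false, false],
  [false, false, true, false, false, false, false],
  [true, false, false, true, false, false, false, false],
  [],
  [false, false, true, true, false, true, false, true, false, true],
  [false, false, true, false, false, true, false, true],
  [false, false, true, false, true, false, true, true, false, true],
  [],
  [],
  [true, false, true, false, true, true],
  [true, false, true, false, false, true, false, true, false, true, false],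
  [false, false, true, true],
  [],
  [false, true, false, true, true, false],
  [false, false, false, true, false],
  [false, true, false, true, true, false, true, false, true, false],
  [false, true, true, false, false, true, false, false, false, false],
  [],
  [true, true, false, true, false, true, true],
  [true, false, false, true, true],
  [],
  [true, false, true, false, true, true, false],
  [true, false, false, false, true, false],
  [false, false, false, true, false, true, false, true, true, false, true],
  [false, true, false, true, true],
  [false, true, false, false, true, false, true, false, true, false],
  [],
  [true, true, false, false, true, true],
  [],
  [false, true, true, false, true, true, false],
  [false, true, false, false, true, false],
  [false, false, false, true, false, false, false, true, false, true],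
  [true, false, true, true, false, true, true],
  [true, true, false, true, true, false, true, true],
  [false, true, true, false, true, true],
  [],
  [],
  [false, false, true, true, false],
  [false, true, true, false, false, true, false],
  [false, false, true, true, false, true, false, true, false],
  [],
  [],
  [],
  [],
  [],
  [],
  [],
  [],
  [false, false, false, true],
  [true, false, false, false, true],
  [false, true, false, false, true],
  [false, true, true, false, false, true],
  [],
  [],
  [false, false, true, true, false, false],
  [false, false, false, true, true, false, true, false],
  [false, true, false, true, true, false, true, false, true],
  [true, false, true, false, true, true, false, true, false, true],
  [false, true, true, false, true, true, false, true, false, true],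
  [false, false, true, true, false, true, false, true],
  [],
  [false, false, false, true, true, false, true],
  [],
  [false, false, false, true, false, false],
  [false, false, false, true, false, true, false, true],
  [false, false, false, true, false, false, false],
  [true, false, false, false, true, false, false, false],
  [false, true, true, false, false, true, false, true, false, true],
  [],
  [false, false, true, true, false, false, true, false, true],
  [false, false, false, true, true, false, true, true, false, true],
  [],
  [],
  [true, true, false, false, false, false, true, false, false, false],
  [false, true, false, true, false, true, true],
  [true, false, true, true, false, true, false, true, true],
  [false, false, false, true, true],
  [],
  [false, false, true, false, true, true, false],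
  [false, false, false, false, true, false],
  [true, false, true, false, true, false, true, true],
  [],
  [false, false, false, false, true, false, false, false],
  [false, true, false, false, false, true, false, false, false],
  [true, false, false, false, true, true],
  [],
  [true, false, false, true, false, true, true, false],
  [true, false, false, false, false, true, false],
  [true, false, false, false, false, true, false, false, false],
  [true, true, false, true, false, true, false, true, true],
  [],
  [false, true, true, false, true, false, true, true],
  [false, true, false, false, true, true],
  [],
  [false, true, false, true, false, true, true, false],
  [false, true, false, false, false, true, false],
  [false, false, true, false, true, true],
  [true, false, false, true, false, true, true],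
  [true, true, false, false, true, false, true, true],
  [],
  [false, true, true, false, false, true, true],
  [],
  [false, false, true, true, false, true, true, false],
  [false, false, true, false, false, true, false],
  [false, true, false, true, true, false, true, true],
  [true, false, true, false, true, true, false, true, true],
  [false, true, true, false, true, true, false, true, true],
  [false, false, true, true, false, true, true],
  [],
  [],
  [false, false, false, true, true, false],
  [false, false, true, true, false, false, true, false],
  [],
  [],
  [],
  [],
  [],
  [],
  [],
  [],
  [false, false, false, false, true],
  [true, false, false, false, false, true],
  [false, true, false, false, false, true],
  [false, false, true, false, false, true],
  [false, false, true, true, false, false, true],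
  [],
  [],
  [false, false, false, true, true, false, false],
  [true, true, false, false, false, false, true, false, false],
  [false, false, false, false, true, false, false],
  [true, false, false, false, false, true, false, false],
  [false, false, true, true, false, true, true, false, true, false, true],
  [false, false, false, true, true, false, true, false, true],
  [],
  [false, false, false, false, true, true, false, true],
  [],
  [],
  [false, false, false, false, false, true, false],
  [true, false, true, false, false, false, false, true, false],
  [false, false, true, false, true, false, true, true],
  [false, true, false, true, true, false, true, false, true, true],
  [false, false, false, false, true, true],
  [],
  [false, false, false, true, false, true, true, false],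
  [true, true, false, true, false, false, false, false, true, false],
  [],
  [true, false, false, false, false, false, true, false],
  [true, false, false, true, false, true, false, true, true],
  [true, false, true, false, true, true, false, true, false, true, true],
  [true, false, false, false, false, true, true],
  [],
  [false, false, false, false, false, true, true, false, true],
  [false, true, false, true, false, true, false, true, true],
  [false, true, false, false, false, false, true, false],
  [],
  [false, false, false, false, false, true, false, false, false],
  [false, false, true, false, false, false, true, false, false, false],
  [false, true, false, false, false, true, true],
  [],
  [false, true, false, false, true, false, true, true, false],
  [true, true, false, false, true, false, false, false, true, false],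
  [false, false, true, false, false, false, true, false],
  [true, false, false, true, false, false, false, true, false],
  [],
  [false, false, true, true, false, true, false, true, true],
  [false, false, true, false, false, true, true],
  [],
  [false, false, true, false, true, false, true, true, false],
  [false, false, false, true, false, true, true],
  [true, false, false, false, true, false, true, true],
  [false, true, false, false, true, false, true, true],
  [false, true, true, false, false, true, false, true, true],
  [],
  [false, false, true, true, false, false, true, true],
  [],
  [false, false, false, true, true, false, true, true, false],
  [false, false, true, false, true, true, false, true, true],
  [false, false, false, true, true, false, false, true, false],
  [false, true, false, true, false, true, true, false, true, true],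
  [false, false, true, true, false, true, true, false, true, true],
  [false, false, false, true, true, false, true, true],
  [],
  [],
  [false, false, false, false, true, true, false],
  [],
  [],
  [],
  [],
  [],
  [],
  [],
  [],
  [false, false, false, false, false, true],
  [true, false, false, false, false, false, true],
  [false, true, false, false, false, false, true],
  [false, false, true, false, false, false, true],
  [false, false, false, true, false, false, true],
  [false, false, false, true, true, false, false, true],
  [],
  [],
  [],
  [false, false, false, false, true, false, true, true, false],
  [false, false, false, false, false, false, true, false],
  [true, true, false, false, true, false, false, false, false, true],
  [false, false, false, true, false, true, false, true, true],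
  [true, true, false, false, false, false, true, false, false, true],
  [false, false, false, false, false, true, true],
  [],
  [false, false, false, false, false, false, true],
  [],
  [false, true, false, false, false, false, false, true],
  [false, false, true, false, false, false, false, true],
  [false, false, false, true, false, false, false, true],
  [false, false, false, false, true, false, false, true],
  [true, false, false, false, false, false, true, true],
  [],
  [true, false, true, false, false, false, false, false, true],
  [true, false, false, false, false, false, false, true],
  [],
  [true, false, false, true, false, false, false, false, true],
  [true, false, false, false, true, false, false, false, true],
  [true, false, false, false, false, true, false, false, true],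
  [false, true, false, false, false, false, true, true],
  [],
  [false, false, true, false, true, false, true, false, true, true],
  [false, false, true, false, false, true, false, true, true, false],
  [false, false, true, false, false, false, false, true, false],
  [],
  [false, false, false, false, false, false, true, false, false, false],
  [false, false, false, true, false, false, false, true, false, false, false],
  [false, false, true, false, false, false, true, true],
  [],
  [true, false, false, false, true, false, false, false, true, false],
  [false, false, false, true, false, true, false, true, true, false],
  [false, false, false, true, false, false, false, true, false],
  [false, true, false, false, true, false, false, false, true, false],
  [],
  [false, false, false, true, true, false, true, false, true, true],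
  [false, false, false, true, false, false, true, true],
  [],
  [false, false, false, false, true, false, true, true],
  [true, false, false, false, false, true, false, true, true],
  [false, true, false, false, false, true, false, true, true],
  [false, false, true, false, false, true, false, true, true],
  [false, false, true, true, false, false, true, false, true, true],
  [],
  [false, false, false, true, true, false, false, true, true],
  [],
  [false, false, false, true, false, true, true, false, true, true],
  [false, false, false, false, false, true, true, false],
  [true, false, false, false, false, false, true, true, false],
  [false, false, true, false, true, false, true, true, false, true, true],
  [false, false, false, true, true, false, true, true, false, true, true],
  [false, false, false, false, true, true, false, true, true],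
  [],
  [],
  [],
  [],
  [],
  [],
  [],
  [],
  [],
  []]

def wordOf80 (a b c : Fin 8) : List Bool := wtab80.getD (a.1 * 64 + b.1 * 8 + c.1) []

set_option maxRecDepth 100000 in
theorem conj_table80 : ∀ a b c : Fin 8, a ≠ b → b ≠ c → a ≠ c →
    ev80 (wordOf80 a b c) * g1 * (ev80 (wordOf80 a b c))⁻¹ = Equiv.swap a b * Equiv.swap b c := by
  decide +kernel

theorem pkgA8Gen : PkgA8Gen := by
  unfold PkgA8Gen
  apply le_antisymm
  · rw [Subgroup.closure_le]
    intro x hx
    rcases hx with rfl | rfl
    · rw [SetLike.mem_coe, Equiv.Perm.mem_alternatingGroup]
      decide +kernel
    · rw [SetLike.mem_coe, Equiv.Perm.mem_alternatingGroup]
      decide +kernel
  · rw [← Equiv.Perm.closure_three_cycles_eq_alternating, Subgroup.closure_le]
    intro σ hσ
    have hσ' : σ.IsThreeCycle := hσ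
    have hne : σ.support.Nonempty := by
      rw [← Finset.card_pos, hσ'.card_support]
      norm_num
    obtain ⟨a, ha⟩ := hne
    have h1 := hσ'.eq_swap_mul_swap_iff_mem_support.mpr ha
    have h2 := hσ'.nodup_iff_mem_support.mpr ha
    have hab : a ≠ σ a := by
      intro h
      rw [← h] at h2
      simp at h2
    have hbc : σ a ≠ σ (σ a) := by
      intro h
      rw [← h] at h2
      simp at h2
    have hac : a ≠ σ (σ a) := by
      intro h
      rw [← h] at h2
      simp at h2
    have h3 := conj_table80 a (σ a) (σ (σ a)) hab hbc hac
    rw [SetLike.mem_coe, h1, ← h3]
    exact mul_mem (mul_mem (ev80_mem _) (Subgroup.subset_closure (by simp))) (inv_mem (ev80_mem _))

end Cfsg.Agent.Lib.Helper80.MCI
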